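import Groth.Agent.SpecLib.ValDense
import Mathlib.AlgebraicGeometry.Fiber
import Mathlib.AlgebraicGeometry.Morphisms.FiniteType

/-! Closed points of a fibre between a specialization are dense. -/

set_option autoImplicit false
universe u

open CategoryTheory AlgebraicGeometry TopologicalSpace

namespace SpecLib

variable {A B : Type u} [CommRing A] [CommRing B] [Algebra A B]

theorem exists_prime_of_isDomain [IsDomain A] [IsDomain B] [FaithfulSMul A B]
    [Algebra.FiniteType A B] (z0 : Ideal B) [z0.IsPrime] (hz0 : z0.comap (algebraMap A B) ≠ ⊥)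
    (hmax : ∀ q : Ideal B, q.IsPrime → z0 ≤ q →
      q.comap (algebraMap A B) = z0.comap (algebraMap A B) → q = z0)
    (b : B) (hb : b ≠ 0) :
    ∃ P : Ideal B, P.IsPrime ∧ P ≤ z0 ∧ b ∉ P ∧ P.comap (algebraMap A B) = ⊥ ∧
      ∀ q : Ideal B, q.IsPrime → P ≤ q → q.comap (algebraMap A B) = ⊥ → q = P := by
  classical
  let K := FractionRing A
  let L := FractionRing B
  let ι : K →+* L := IsFractionRing.lift (g := (algebraMap B L).comp (algebraMap A B))
    ((IsFractionRing.injective B L).comp (FaithfulSMul.algebraMap_injective A B))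
  have hι : ∀ a, ι (algebraMap A K a) = algebraMap B L (algebraMap A B a) := fun a ↦
    IsFractionRing.lift_algebraMap _ _
  let R0 := Localization.AtPrime z0
  obtain ⟨W, hW, hloc⟩ := IsLocalRing.exists_factor_valuationRing (R := R0) (K := L)
    (IsLocalization.lift (M := z0.primeCompl) (g := algebraMap B L) fun y ↦
      (isUnit_iff_ne_zero).mpr fun h ↦ y.2 (by
        rw [(map_eq_zero_iff _ (IsFractionRing.injective B L)).mp h]; exact z0.zero_mem))
  let j : B →+* W := RingHom.codRestrict (algebraMap B L) W.toSubring fun x ↦ by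
    have := hW (algebraMap B R0 x)
    rwa [IsLocalization.lift_eq] at this
  have hj : ∀ x : B, x ∈ z0 ↔ ¬IsUnit (j x) := by
    intro x
    rw [← IsLocalization.AtPrime.to_map_mem_maximal_iff R0 z0, IsLocalRing.mem_maximalIdeal,
      mem_nonunits_iff, not_iff_not]
    have e : RingHom.codRestrict (IsLocalization.lift (M := z0.primeCompl) (g := algebraMap B L)
        _) W.toSubring hW (algebraMap B R0 x) = j x := Subtype.ext (IsLocalization.lift_eq _ x)
    exact ⟨fun h ↦ e ▸ h.map _, fun h ↦ hloc.map_nonunit _ (e.symm ▸ h)⟩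
  let V : ValuationSubring K := W.comap ι
  let τ : V →+* W := RingHom.codRestrict (ι.comp V.subtype) W.toSubring fun v ↦ v.2
  let _ : Algebra V L := (ι.comp V.subtype).toAlgebra
  have hVW : ∀ v : V, IsUnit (τ v) → IsUnit v := by
    intro v hv
    obtain ⟨⟨t, s, h, -⟩, rfl⟩ := hv.exists_left_inv |> fun ⟨b, hb⟩ ↦
      (⟨⟨τ v, b, by rw [mul_comm]; exact hb, hb⟩, rfl⟩ : ∃ u : Wˣ, (u : W) = τ v)
    have hts : ι (v : K) * (s : L) = 1 := congrArg Subtype.val h
    have hv0 : (v : K) ≠ 0 := fun h0 ↦ one_ne_zero (α := L) (by rw [← hts, h0, map_zero, zero_mul])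
    refine isUnit_iff_exists_inv.mpr ⟨⟨(v : K)⁻¹, ?_⟩, Subtype.ext (mul_inv_cancel₀ hv0)⟩
    show ι (v : K)⁻¹ ∈ W
    rw [map_inv₀, inv_eq_of_mul_eq_one_right hts]
    exact s.2
  have hAV : ∀ a : A, algebraMap A K a ∈ V := fun a ↦ by
    show ι _ ∈ W
    rw [hι]; exact (j _).2
  obtain ⟨gen, hgen⟩ := Algebra.FiniteType.out (R := A) (A := B)
  let C : Subalgebra V L := Algebra.adjoin V (algebraMap B L '' gen)
  have hBC : ∀ x, algebraMap B L x ∈ C := fun x ↦ by
    have hx : x ∈ Algebra.adjoin A (gen : Set B) := hgen ▸ trivial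
    induction hx using Algebra.adjoin_induction with
    | mem y hy => exact Algebra.subset_adjoin ⟨y, hy, rfl⟩
    | algebraMap a =>
      rw [← hι]
      exact C.algebraMap_mem ⟨_, hAV a⟩
    | add y z _ _ hy hz => rw [map_add]; exact add_mem hy hz
    | mul y z _ _ hy hz => rw [map_mul]; exact mul_mem hy hz
  have hCW : ∀ x ∈ C, x ∈ W := fun x hx ↦ by
    induction hx using Algebra.adjoin_induction with
    | mem y hy => obtain ⟨y, -, rfl⟩ := hy; exact (j y).2
    | algebraMap v => exact v.2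
    | add y z _ _ hy hz => exact add_mem hy hz
    | mul y z _ _ hy hz => exact mul_mem hy hz
  have : Algebra.FiniteType V C :=
    ⟨(Subalgebra.fg_top _).mpr ((Subalgebra.fg_def).mpr ⟨_, gen.finite_toSet.image _, rfl⟩)⟩
  have : FaithfulSMul V C := (faithfulSMul_iff_algebraMap_injective _ _).mpr fun v w h ↦
    Subtype.ext (ι.injective (congrArg Subtype.val h))
  let incl : C →+* W := RingHom.codRestrict C.val.toRingHom W.toSubring fun c ↦ hCW _ c.2
  let jC : B →+* C := RingHom.codRestrict (algebraMap B L) C.toSubring hBC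
  let z1 : Ideal C := (IsLocalRing.maximalIdeal W).comap incl
  obtain ⟨z, hzmax, hz1z⟩ := Ideal.exists_le_maximal z1 (Ideal.comap_ne_top _
    (IsLocalRing.maximalIdeal.isMaximal _).ne_top)
  have hVC : ∀ v : V, incl (algebraMap V C v) = τ v := fun v ↦ rfl
  have hzV : z.comap (algebraMap V C) = IsLocalRing.maximalIdeal V := by
    refine ((IsLocalRing.maximalIdeal.isMaximal V).eq_of_le (Ideal.comap_ne_top _ hzmax.ne_top)
      fun v hv ↦ hz1z ?_).symm
    show incl (algebraMap V C v) ∈ IsLocalRing.maximalIdeal W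
    exact fun h ↦ hv (hVW v (hVC v ▸ h))
  have hjincl : ∀ x, incl (jC x) = j x := fun x ↦ rfl
  have hz0le : z0 ≤ z.comap jC := fun x hx ↦
    hz1z (show j x ∈ IsLocalRing.maximalIdeal W from (hj x).mp hx)
  have hzA : ∀ a : A, jC (algebraMap A B a) = algebraMap V C ⟨_, hAV a⟩ := fun a ↦
    Subtype.ext (hι a).symm
  have hzB : z.comap jC = z0 := by
    refine hmax _ (Ideal.comap_isPrime _ _) hz0le (le_antisymm (fun a ha ↦ ?_)
      fun a ha ↦ hz0le ha)
    have h1 : (⟨_, hAV a⟩ : V) ∈ IsLocalRing.maximalIdeal V := by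
      rw [← hzV, Ideal.mem_comap, ← hzA]; exact ha
    rw [Ideal.mem_comap, hj]
    intro hu
    apply h1
    refine hVW _ ?_
    convert hu
    exact Subtype.ext (hι a)
  have hV : IsLocalRing.maximalIdeal V ≠ ⊥ := by
    obtain ⟨a, ha, ha0⟩ := Submodule.exists_mem_ne_zero_of_ne_bot hz0
    intro h
    have h1 : (⟨_, hAV a⟩ : V) ∈ IsLocalRing.maximalIdeal V := by
      rw [← hzV, Ideal.mem_comap, ← hzA]; exact hz0le ha
    rw [h, Ideal.mem_bot] at h1
    exact ha0 ((map_eq_zero_iff _ (IsFractionRing.injective A K)).mp (congrArg Subtype.val h1))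
  obtain ⟨P, hP, hPz, hbP, hPV, halg⟩ := exists_prime hV z hzV (jC b)
    (fun h ↦ hb ((map_eq_zero_iff _ (IsFractionRing.injective B L)).mp (congrArg Subtype.val h)))
  refine ⟨P.comap jC, Ideal.comap_isPrime _ _, hzB ▸ Ideal.comap_mono hPz, hbP, ?_, ?_⟩
  · refine (Submodule.eq_bot_iff _).mpr fun a ha ↦ ?_
    have h1 : (⟨_, hAV a⟩ : V) ∈ P.comap (algebraMap V C) := by
      rw [Ideal.mem_comap, ← hzA]; exact ha
    rw [hPV, Ideal.mem_bot] at h1
    exact (map_eq_zero_iff _ (IsFractionRing.injective A K)).mp (congrArg Subtype.val h1)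
  intro q hq hPq hqA
  refine le_antisymm (fun y hy ↦ ?_) hPq
  by_contra hyP
  obtain ⟨p, hp0, hp⟩ := halg (jC y)
  let pK : Polynomial K := p.map V.subtype
  obtain ⟨d, hd⟩ := IsLocalization.integerNormalization_map_to_map (nonZeroDivisors A) pK
  let pA := IsLocalization.integerNormalization (nonZeroDivisors A) pK
  have hpA0 : pA ≠ 0 := fun h ↦ by
    rw [show IsLocalization.integerNormalization (nonZeroDivisors A) pK = 0 from h,
      Polynomial.map_zero] at hd
    obtain ⟨d, hdmem⟩ := d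
    rw [Algebra.smul_def] at hd
    rcases mul_eq_zero.mp hd.symm with h0 | h0
    · rw [Polynomial.algebraMap_apply, Polynomial.C_eq_zero] at h0
      exact nonZeroDivisors.ne_zero hdmem ((map_eq_zero_iff _ (IsFractionRing.injective A K)).mp h0)
    · exact hp0 (Polynomial.map_injective _ Subtype.coe_injective (h0.trans (Polynomial.map_zero _).symm))
  have hev : jC (Polynomial.aeval y pA) = algebraMap V C ⟨_, hAV d⟩ * Polynomial.aeval (jC y) p := by
    apply Subtype.ext
    have h1 := congrArg (Polynomial.eval₂ ι (algebraMap B L y)) hd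
    rw [Polynomial.eval₂_map] at h1
    have e1 : ι.comp (algebraMap A K) = (algebraMap B L).comp (algebraMap A B) := RingHom.ext hι
    rw [e1] at h1
    show algebraMap B L (Polynomial.aeval y pA) =
      ι (algebraMap A K d) * C.val.toRingHom (Polynomial.aeval (jC y) p)
    rw [Polynomial.aeval_def, Polynomial.aeval_def, Polynomial.hom_eval₂, Polynomial.hom_eval₂]
    refine h1.trans ?_
    rw [Algebra.smul_def, Polynomial.eval₂_mul, Polynomial.algebraMap_apply, Polynomial.eval₂_C,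
      Polynomial.eval₂_map]
    rfl
  have hyA : Polynomial.aeval y pA ∈ P.comap jC := by
    rw [Ideal.mem_comap, hev]; exact P.mul_mem_left _ hp
  -- remove the powers of the variable
  obtain ⟨r, hr, hrX⟩ := Polynomial.exists_eq_pow_rootMultiplicity_mul_and_not_dvd pA hpA0 0
  rw [map_zero, sub_zero] at hr hrX
  rw [hr, map_mul, map_pow, Polynomial.aeval_X] at hyA
  have hry : Polynomial.aeval y r ∈ P.comap jC :=
    ((Ideal.comap_isPrime jC P).mem_or_mem hyA).resolve_left fun h ↦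
      hyP ((Ideal.comap_isPrime jC P).mem_of_pow_mem _ h)
  rw [Polynomial.X_dvd_iff] at hrX
  apply hrX
  rw [← Ideal.mem_bot, ← hqA, Ideal.mem_comap]
  have hsplit := congrArg (Polynomial.aeval y) (Polynomial.X_mul_divX_add r)
  rw [map_add, map_mul, Polynomial.aeval_X, Polynomial.aeval_C] at hsplit
  exact (Ideal.add_mem_iff_right q (q.mul_mem_right _ hy)).mp (hsplit.symm ▸ hPq hry)

theorem exists_prime_between [Algebra.FiniteType A B] (px pz : Ideal B) [px.IsPrime] [pz.IsPrime]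
    (hle : px ≤ pz) (hne : px.comap (algebraMap A B) ≠ pz.comap (algebraMap A B))
    (hmax : ∀ q : Ideal B, q.IsPrime → pz ≤ q →
      q.comap (algebraMap A B) = pz.comap (algebraMap A B) → q = pz)
    (b : B) (hb : b ∉ px) :
    ∃ P : Ideal B, P.IsPrime ∧ px ≤ P ∧ P ≤ pz ∧ b ∉ P ∧
      P.comap (algebraMap A B) = px.comap (algebraMap A B) ∧
      ∀ q : Ideal B, q.IsPrime → P ≤ q →
        q.comap (algebraMap A B) = px.comap (algebraMap A B) → q = P := by
  let p0 : Ideal A := px.under A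
  have : px.LiesOver p0 := ⟨rfl⟩
  let π := Ideal.Quotient.mk px
  have hker : ∀ {q : Ideal B}, px ≤ q → (q.map π).comap π = q := fun h ↦ by
    rw [Ideal.comap_map_of_surjective _ Ideal.Quotient.mk_surjective, ← RingHom.ker_eq_comap_bot,
      Ideal.mk_ker, sup_eq_left.mpr h]
  have hcomap : ∀ q : Ideal (B ⧸ px),
      (q.comap (algebraMap (A ⧸ p0) (B ⧸ px))).comap (Ideal.Quotient.mk p0) =
        (q.comap π).comap (algebraMap A B) := fun q ↦ by
    rw [Ideal.comap_comap, Ideal.comap_comap]; rfl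
  have hsurj : Function.Surjective (Ideal.Quotient.mk p0) := Ideal.Quotient.mk_surjective
  have : Algebra.FiniteType (A ⧸ p0) (B ⧸ px) :=
    .of_restrictScalars_finiteType A (A ⧸ p0) (B ⧸ px)
  have : (pz.map π).IsPrime :=
    Ideal.map_isPrime_of_surjective Ideal.Quotient.mk_surjective (Ideal.mk_ker.le.trans hle)
  obtain ⟨P, hP, hPz, hbP, hPA, hPmax⟩ := exists_prime_of_isDomain (A := A ⧸ p0) (pz.map π)
    (fun h ↦ hne (by
      have := congrArg (Ideal.comap (Ideal.Quotient.mk p0)) h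
      rw [hcomap, hker hle, ← RingHom.ker_eq_comap_bot, Ideal.mk_ker] at this
      exact this.symm))
    (fun q hq hzq heq ↦ by
      have h1 := hmax (q.comap π) inferInstance ((hker hle).ge.trans (Ideal.comap_mono hzq)) (by
        rw [← hcomap, heq, hcomap, hker hle])
      rw [← h1, Ideal.map_comap_of_surjective _ Ideal.Quotient.mk_surjective])
    (π b) (fun h ↦ hb (Ideal.Quotient.eq_zero_iff_mem.mp h))
  have hpx : px ≤ P.comap π := fun x hx ↦ by
    rw [Ideal.mem_comap, Ideal.Quotient.eq_zero_iff_mem.mpr hx]; exact zero_mem _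
  have hbot : (P.comap π).comap (algebraMap A B) = px.comap (algebraMap A B) := by
    rw [← hcomap, hPA, ← RingHom.ker_eq_comap_bot, Ideal.mk_ker]
  refine ⟨P.comap π, inferInstance, hpx, (Ideal.comap_mono hPz).trans (hker hle).le, hbP, hbot,
    fun q hq hPq hqA ↦ ?_⟩
  have : (q.map π).IsPrime := Ideal.map_isPrime_of_surjective Ideal.Quotient.mk_surjective
    (Ideal.mk_ker.le.trans (hpx.trans hPq))
  have h1 := hPmax (q.map π) inferInstance
    (by rw [← Ideal.map_comap_of_surjective π Ideal.Quotient.mk_surjective P]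
        exact Ideal.map_mono hPq)
    (Ideal.comap_injective_of_surjective _ hsurj (by
      rw [hcomap, hker (hpx.trans hPq), hqA, ← RingHom.ker_eq_comap_bot, Ideal.mk_ker]))
  rw [← h1, hker (hpx.trans hPq)]

theorem dense_closed_points {X S : Scheme.{u}} (f : X ⟶ S) [LocallyOfFiniteType f] (x x' : X)
    (hsp : x ⤳ x') (hne : f x ≠ f x')
    (hcl : IsClosed (Subtype.val ⁻¹' {x'} : Set ↥(f ⁻¹' {f x'}))) (O : Set X) (hO : IsOpen O)
    (hxO : x ∈ O) :
    ∃ x₁ ∈ O, f x₁ = f x ∧ IsClosed (Subtype.val ⁻¹' {x₁} : Set ↥(f ⁻¹' {f x})) ∧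
      x ⤳ x₁ ∧ x₁ ⤳ x' := by
  obtain ⟨_, ⟨V, hV, rfl⟩, hxV, -⟩ :=
    S.isBasis_affineOpens.exists_subset_of_mem_open (Set.mem_univ (f x')) isOpen_univ
  obtain ⟨_, ⟨U, hU, rfl⟩, hxU, hUV⟩ :=
    X.isBasis_affineOpens.exists_subset_of_mem_open (show x' ∈ f ⁻¹ᵁ V from hxV) (f ⁻¹ᵁ V).2
  change S.Opens at V
  change X.Opens at U
  have hxU' : x ∈ U := hsp.mem_open U.2 hxU
  have hF : (f.appLE V U hUV).hom.FiniteType :=
    LocallyOfFiniteType.finiteType_appLE f hV hU hUV
  let _ := (f.appLE V U hUV).hom.toAlgebra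
  have : Algebra.FiniteType Γ(S, V) Γ(X, U) := hF
  let g := hU.fromSpec
  have hcomp : ∀ p, f (g p) = hV.fromSpec (PrimeSpectrum.comap (algebraMap Γ(S, V) Γ(X, U)) p) := by
    intro p
    rw [← Scheme.Hom.comp_apply, ← IsAffineOpen.SpecMap_appLE_fromSpec f hV hU hUV,
      Scheme.Hom.comp_apply]
    rfl
  have hgi : Topology.IsOpenEmbedding g := g.isOpenEmbedding
  have hVi : Function.Injective hV.fromSpec := hV.fromSpec.isOpenEmbedding.injective
  have hrange : Set.range g = U := hU.range_fromSpec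
  obtain ⟨px, rfl⟩ : x ∈ Set.range g := hrange ▸ hxU'
  obtain ⟨pz, rfl⟩ : x' ∈ Set.range g := hrange ▸ hxU
  have hspec : ∀ p q : PrimeSpectrum Γ(X, U), g p ⤳ g q ↔ p.asIdeal ≤ q.asIdeal := fun p q ↦ by
    rw [hgi.isInducing.specializes_iff]
    exact (PrimeSpectrum.le_iff_specializes p q).symm
  have hfib : ∀ p q : PrimeSpectrum Γ(X, U), f (g p) = f (g q) ↔
      p.asIdeal.comap (algebraMap Γ(S, V) Γ(X, U)) =
        q.asIdeal.comap (algebraMap Γ(S, V) Γ(X, U)) := fun p q ↦ by
    rw [hcomp, hcomp, hVi.eq_iff]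
    exact PrimeSpectrum.ext_iff
  obtain ⟨_, ⟨b, rfl⟩, hpxb, hbO⟩ :=
    PrimeSpectrum.isTopologicalBasis_basic_opens.exists_subset_of_mem_open
      (show px ∈ g ⁻¹' O from hxO) (hO.preimage g.continuous)
  obtain ⟨P, hP, hxP, hPz, hbP, hPA, hPmax⟩ :=
    exists_prime_between (A := Γ(S, V)) px.asIdeal pz.asIdeal ((hspec _ _).mp hsp)
      (fun h ↦ hne ((hfib _ _).mpr h))
      (fun q hq hzq heq ↦ by
        let q' : PrimeSpectrum Γ(X, U) := ⟨q, hq⟩
        have hsp' : (⟨g pz, rfl⟩ : ↥(f ⁻¹' {f (g pz)})) ⤳ ⟨g q', ((hfib q' pz).mpr heq :)⟩ :=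
          Topology.IsInducing.subtypeVal.specializes_iff.mp ((hspec pz q').mpr hzq)
        have := hsp'.mem_closed hcl rfl
        exact congrArg PrimeSpectrum.asIdeal (hgi.injective this))
      b hpxb
  let p1 : PrimeSpectrum Γ(X, U) := ⟨P, hP⟩
  have hfx : f (g p1) = f (g px) := (hfib _ _).mpr hPA
  refine ⟨g p1, hbO (show p1 ∈ PrimeSpectrum.basicOpen b from hbP), hfx, ?_,
    (hspec _ _).mpr hxP, (hspec _ _).mpr hPz⟩
  -- the point is closed in its fibre, as the fibre is a Jacobson space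
  have : JacobsonSpace ↥(f ⁻¹' {f (g px)}) :=
    JacobsonSpace.of_isOpenEmbedding (f.fiberHomeo (f (g px))).symm.isOpenEmbedding
  have heq : (Subtype.val ⁻¹' {g p1} : Set ↥(f ⁻¹' {f (g px)})) = {⟨g p1, hfx⟩} := by
    ext y; simp [Subtype.ext_iff]
  rw [heq]
  refine isClosed_singleton_of_isLocallyClosed_singleton ⟨Subtype.val ⁻¹' U, closure {⟨g p1, hfx⟩},
    U.2.preimage continuous_subtype_val, isClosed_closure, ?_⟩
  ext y
  refine ⟨?_, fun ⟨hyU, hy⟩ ↦ ?_⟩
  · rintro rfl
    exact ⟨hrange ▸ ⟨p1, rfl⟩, subset_closure rfl⟩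
  · obtain ⟨y, hyf⟩ := y
    obtain ⟨q, rfl⟩ : y ∈ Set.range g := hrange ▸ hyU
    have hq : p1.asIdeal ≤ q.asIdeal := (hspec _ _).mp
      ((specializes_iff_mem_closure.mpr hy).map continuous_subtype_val)
    exact Subtype.ext (congrArg g (PrimeSpectrum.ext (hPmax q.asIdeal q.isPrime hq ((hfib _ _).mp hyf))))

end SpecLib
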