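import Mathlib

/-! Points closed in the generic fibre specializing to a given closed point of the special fibre,
over a valuation ring. -/

set_option autoImplicit false
universe u

open Polynomial

namespace SpecLib

theorem isIntegrallyClosed_mvPolynomial (R : Type u) [CommRing R] [IsDomain R]
    [IsIntegrallyClosed R] : ∀ n : ℕ, IsIntegrallyClosed (MvPolynomial (Fin n) R)
  | 0 => IsIntegrallyClosed.of_equiv (MvPolynomial.isEmptyAlgEquiv R (Fin 0)).symm.toRingEquiv
  | n + 1 =>
    haveI := isIntegrallyClosed_mvPolynomial R n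
    IsIntegrallyClosed.of_equiv (MvPolynomial.finSuccEquiv R n).symm.toRingEquiv

variable {V : Type u} [CommRing V] [IsDomain V] [ValuationRing V]

/-- In a valuation ring a nonzero finite family has a member dividing all the others. -/
theorem exists_dvd_all {ι : Type*} (s : Finset ι) (hs : s.Nonempty) (a : ι → V) :
    ∃ i ∈ s, ∀ j ∈ s, a i ∣ a j := by
  induction hs using Finset.Nonempty.cons_induction with
  | singleton i => exact ⟨i, Finset.mem_singleton_self i, by simp⟩
  | cons i s hi hs ih =>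
    obtain ⟨k, hk, hk'⟩ := ih
    rcases ValuationRing.dvd_total (a i) (a k) with h | h
    · exact ⟨i, Finset.mem_cons_self i s, fun j hj ↦ by
        rcases Finset.mem_cons.mp hj with rfl | hj
        exacts [dvd_rfl, h.trans (hk' j hj)]⟩
    · exact ⟨k, Finset.mem_cons.mpr (Or.inr hk), fun j hj ↦ by
        rcases Finset.mem_cons.mp hj with rfl | hj
        exacts [h, hk' j hj]⟩

variable {C : Type u} [CommRing C] [IsDomain C] [Algebra V C]

/-- A polynomial map injective modulo the maximal ideal is injective. -/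
theorem injective_of_mod_injective [FaithfulSMul V C] {n : ℕ}
    (φ : MvPolynomial (Fin n) V →ₐ[V] C)
    (h : ∀ f, φ f ∈ (IsLocalRing.maximalIdeal V).map (algebraMap V C) →
      MvPolynomial.map (IsLocalRing.residue V) f = 0) : Function.Injective φ := by
  rw [injective_iff_map_eq_zero]
  intro f hf
  by_contra hne
  obtain ⟨d, hd, hdvd⟩ := exists_dvd_all f.support
    (MvPolynomial.support_nonempty.mpr hne) (fun d ↦ f.coeff d)
  have hd0 : f.coeff d ≠ 0 := MvPolynomial.mem_support_iff.mp hd
  have hdiv : MvPolynomial.C (f.coeff d) ∣ f := MvPolynomial.C_dvd_iff_dvd_coeff _ _ |>.mpr fun e ↦ by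
    by_cases he : e ∈ f.support
    · exact hdvd e he
    · rw [MvPolynomial.notMem_support_iff.mp he]; exact dvd_zero _
  obtain ⟨g, hg⟩ := hdiv
  have hg0 : φ g = 0 := by
    have := congrArg φ hg
    rw [hf, map_mul, ← MvPolynomial.algebraMap_eq, AlgHom.commutes] at this
    exact (mul_eq_zero.mp this.symm).resolve_left
      fun h0 ↦ hd0 ((FaithfulSMul.algebraMap_injective V C) (h0.trans (map_zero _).symm))
  have hg1 : g.coeff d = 1 := by
    have := congrArg (MvPolynomial.coeff d) hg
    rw [MvPolynomial.coeff_C_mul] at this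
    exact (mul_left_cancel₀ hd0 (by rw [← this, mul_one])).symm
  have := congrArg (MvPolynomial.coeff d) (h g (by rw [hg0]; exact zero_mem _))
  rw [MvPolynomial.coeff_map, hg1, map_one, MvPolynomial.coeff_zero] at this
  exact one_ne_zero this

variable [Algebra.FiniteType V C] [FaithfulSMul V C]

/-- A polynomial chart at a closed point of the special fibre. -/
theorem exists_chart (z : Ideal C) [z.IsMaximal]
    (hz : z.comap (algebraMap V C) = IsLocalRing.maximalIdeal V) :
    ∃ (n : ℕ) (φ : MvPolynomial (Fin n) V →ₐ[V] C), Function.Injective φ ∧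
      (∀ i, φ (MvPolynomial.X i) ∈ z) ∧
      (letI := φ.toRingHom.toAlgebra; Algebra.QuasiFiniteAt (MvPolynomial (Fin n) V) z) := by
  classical
  let k := IsLocalRing.ResidueField V
  let J : Ideal C := (IsLocalRing.maximalIdeal V).map (algebraMap V C)
  have hJz : J ≤ z := Ideal.map_le_iff_le_comap.mpr hz.ge
  let D := C ⧸ J
  let _ : Algebra k D := (Ideal.Quotient.lift (IsLocalRing.maximalIdeal V) (algebraMap V D)
    fun x hx ↦ Ideal.Quotient.eq_zero_iff_mem.mpr (Ideal.mem_map_of_mem _ hx)).toAlgebra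
  have : IsScalarTower V k D := IsScalarTower.of_algebraMap_eq fun x ↦ rfl
  have : Nontrivial D := Ideal.Quotient.nontrivial_iff.mpr
    fun h ↦ Ideal.IsMaximal.ne_top ‹_› (top_le_iff.mp (h ▸ hJz))
  have : Algebra.FiniteType V D := .trans (S := C) inferInstance inferInstance
  have : Algebra.FiniteType k D := .of_restrictScalars_finiteType V k D
  obtain ⟨n, g, hg, hgfin⟩ := exists_finite_inj_algHom_of_fg k D
  choose T hT using fun i ↦ Ideal.Quotient.mk_surjective (g (MvPolynomial.X i))
  let zD : Ideal D := z.map (Ideal.Quotient.mk J)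
  have hzD : zD.IsMaximal := by
    refine Ideal.IsMaximal.map_of_surjective_of_ker_le Ideal.Quotient.mk_surjective ?_
    rw [Ideal.mk_ker]; exact hJz
  have halg : ∀ i, ∃ h : Polynomial k, h.Monic ∧ h.natDegree ≠ 0 ∧
      Polynomial.aeval (g (MvPolynomial.X i)) h ∈ zD := by
    intro i
    let _ := Ideal.Quotient.field zD
    have : Module.Finite k (D ⧸ zD) := finite_of_finite_type_of_isJacobsonRing k (D ⧸ zD)
    let x : D ⧸ zD := Ideal.Quotient.mk zD (g (MvPolynomial.X i))
    have hx : IsIntegral k x := Algebra.IsIntegral.isIntegral x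
    refine ⟨minpoly k x, minpoly.monic hx, (minpoly.natDegree_pos hx).ne', ?_⟩
    rw [← Ideal.Quotient.eq_zero_iff_mem]
    exact ((Polynomial.aeval_algHom_apply (Ideal.Quotient.mkₐ k zD) _ _).symm.trans
      (minpoly.aeval k x))
  choose h hmonic hdeg hmem using halg
  have hlift : ∀ i, ∃ H : Polynomial V, H.map (IsLocalRing.residue V) = h i ∧ H.Monic := fun i ↦ by
    obtain ⟨H, hH, -, hHm⟩ := Polynomial.lifts_and_degree_eq_and_monic
      ((Polynomial.lifts_iff_coeff_lifts _).mpr fun m ↦
        IsLocalRing.residue_surjective ((h i).coeff m)) (hmonic i)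
    exact ⟨H, hH, hHm⟩
  choose H hH hHm using hlift
  let φ : MvPolynomial (Fin n) V →ₐ[V] C :=
    MvPolynomial.aeval fun i ↦ Polynomial.aeval (T i) (H i)
  have hmk : ∀ i, Ideal.Quotient.mk J (φ (MvPolynomial.X i)) =
      Polynomial.aeval (g (MvPolynomial.X i)) (h i) := by
    intro i
    simp only [φ, MvPolynomial.aeval_X]
    rw [← Ideal.Quotient.mkₐ_eq_mk V, ← Polynomial.aeval_algHom_apply, Ideal.Quotient.mkₐ_eq_mk,
      hT, ← hH i, ← IsLocalRing.ResidueField.algebraMap_eq, Polynomial.aeval_map_algebraMap]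
  have hind : AlgebraicIndependent k fun i ↦ Polynomial.aeval (g (MvPolynomial.X i)) (h i) := by
    refine AlgebraicIndependent.polynomial_aeval_of_transcendental
      ((MvPolynomial.algebraicIndependent_X (Fin n) k).map' hg) fun i ↦ ?_
    exact Polynomial.transcendental _ (hdeg i) ((hmonic i).leadingCoeff ▸ one_mem _)
  have hφ : Function.Injective φ := by
    refine injective_of_mod_injective φ fun f hf ↦ ?_
    apply hind
    rw [map_zero]
    refine Eq.trans ?_ (Ideal.Quotient.eq_zero_iff_mem.mpr hf)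
    have : (Ideal.Quotient.mk J).comp φ.toRingHom =
        ((MvPolynomial.aeval fun i ↦ Polynomial.aeval (g (MvPolynomial.X i)) (h i)) :
          MvPolynomial (Fin n) k →ₐ[k] D).toRingHom.comp
            (MvPolynomial.map (IsLocalRing.residue V)) := by
      refine MvPolynomial.ringHom_ext (fun a ↦ ?_) fun i ↦ ?_
      · simp only [RingHom.comp_apply, AlgHom.toRingHom_eq_coe, RingHom.coe_coe, φ,
          MvPolynomial.aeval_C, MvPolynomial.map_C]
        exact IsScalarTower.algebraMap_apply V k D a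
      · simp [← hmk]
    exact (RingHom.congr_fun this f).symm
  refine ⟨n, φ, hφ, fun i ↦ ?_, ?_⟩
  · have h1 : Ideal.Quotient.mk J (φ (MvPolynomial.X i)) ∈ zD := hmk i ▸ hmem i
    obtain ⟨y, hy, he⟩ := (Ideal.mem_map_iff_of_surjective _ Ideal.Quotient.mk_surjective).mp h1
    have : φ (MvPolynomial.X i) - y ∈ z := hJz ((Ideal.Quotient.eq).mp he.symm)
    simpa using add_mem this hy
  let _ := φ.toRingHom.toAlgebra
  let R := MvPolynomial (Fin n) V
  have : IsScalarTower V R C := IsScalarTower.of_algebraMap_eq fun x ↦ (φ.commutes x).symm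
  have hCR : Algebra.FiniteType R C := .of_restrictScalars_finiteType V R C
  -- `D` is finite over `R`
  have hint : Algebra.IsIntegral R D := by
    have hTint : ∀ i, IsIntegral R (Ideal.Quotient.mk J (T i)) := fun i ↦ by
      refine IsIntegral.map (Ideal.Quotient.mkₐ R J) ⟨(H i).map (algebraMap V R) -
        Polynomial.C (MvPolynomial.X i), ?_, ?_⟩
      · refine ((hHm i).map _).sub_of_left ?_
        refine Polynomial.degree_C_le.trans_lt (Polynomial.natDegree_pos_iff_degree_pos.mp ?_)
        rw [(hHm i).natDegree_map, ← (hHm i).natDegree_map (IsLocalRing.residue V), hH i]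
        exact Nat.pos_of_ne_zero (hdeg i)
      · rw [← Polynomial.aeval_def, map_sub, Polynomial.aeval_map_algebraMap, Polynomial.aeval_C]
        exact sub_eq_zero.mpr
          (MvPolynomial.aeval_X (fun i ↦ Polynomial.aeval (T i) (H i)) i).symm
    refine ⟨fun x ↦ ?_⟩
    obtain ⟨p, hp, hpx⟩ := (RingHom.Finite.to_isIntegral hgfin : g.toRingHom.IsIntegral) x
    have hrange : ∀ y, IsIntegral R (g y) := fun y ↦ by
      induction y using MvPolynomial.induction_on with
      | C a =>
        obtain ⟨a, rfl⟩ := IsLocalRing.residue_surjective a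
        rw [← MvPolynomial.algebraMap_eq, AlgHom.commutes, ← IsLocalRing.ResidueField.algebraMap_eq,
          ← IsScalarTower.algebraMap_apply, IsScalarTower.algebraMap_apply V R D]
        exact isIntegral_algebraMap
      | add p q hp hq => rw [map_add]; exact hp.add hq
      | mul_X p i hp => rw [map_mul, ← hT i]; exact hp.mul (hTint i)
    let R' := integralClosure R D
    let g' : MvPolynomial (Fin n) k →+* R' :=
      g.toRingHom.codRestrict R'.toSubring fun y ↦ hrange y
    have hx' : IsIntegral R' x :=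
      ⟨p.map g', hp.map _, by rw [Polynomial.eval₂_map]; exact hpx⟩
    exact isIntegral_trans (R := R) (A := R') x hx'
  have : Algebra.FiniteType R D := .trans (S := C) inferInstance inferInstance
  have : Module.Finite R D := Algebra.IsIntegral.finite
  let q : PrimeSpectrum C := ⟨z, inferInstance⟩
  refine Algebra.QuasiFiniteAt.of_isOpen_singleton_fiber q ?_
  let Q := q.comap (algebraMap R C)
  let S := PrimeSpectrum.comap (algebraMap R C) ⁻¹' {Q}
  have hVQ : ∀ p : S, J ≤ p.1.asIdeal := fun p ↦ by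
    rw [Ideal.map_le_iff_le_comap]
    intro a ha
    have hp : p.1.asIdeal.comap (algebraMap R C) = Q.asIdeal := congrArg PrimeSpectrum.asIdeal p.2
    show algebraMap V C a ∈ p.1.asIdeal
    rw [IsScalarTower.algebraMap_apply V R C, ← Ideal.mem_comap, hp]
    show algebraMap R C (algebraMap V R a) ∈ z
    rw [← IsScalarTower.algebraMap_apply]
    exact hJz (Ideal.mem_map_of_mem _ ha)
  have hQmax : Q.asIdeal.IsMaximal := by
    let zz : Ideal D := zD
    have : (zz.comap (algebraMap R D)).IsMaximal :=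
      Ideal.isMaximal_comap_of_isIntegral_of_isMaximal zz
    have h1 : zD.comap (Ideal.Quotient.mk J) = z :=
      (Ideal.comap_map_of_surjective _ Ideal.Quotient.mk_surjective _).trans
        (sup_eq_left.mpr ((Ideal.mk_ker (I := J)).le.trans hJz))
    rw [IsScalarTower.algebraMap_eq R C D, ← Ideal.comap_comap] at this
    change ((zD.comap (Ideal.Quotient.mk J)).comap (algebraMap R C)).IsMaximal at this
    rwa [h1] at this
  let e : S → Q.asIdeal.primesOver D := fun p ↦
    ⟨p.1.asIdeal.map (Ideal.Quotient.mk J),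
      Ideal.map_isPrime_of_surjective Ideal.Quotient.mk_surjective (Ideal.mk_ker.le.trans (hVQ p)),
      ⟨by
        rw [Ideal.under, IsScalarTower.algebraMap_eq R C D, ← Ideal.comap_comap]
        refine (congrArg PrimeSpectrum.asIdeal p.2).symm.trans ?_
        have h1 : (p.1.asIdeal.map (Ideal.Quotient.mk J)).comap (algebraMap C D) = p.1.asIdeal :=
          (Ideal.comap_map_of_surjective _ Ideal.Quotient.mk_surjective _).trans
            (sup_eq_left.mpr ((Ideal.mk_ker (I := J)).le.trans (hVQ p)))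
        rw [h1]
        rfl⟩⟩
  have hinj : Function.Injective e := fun p p' hpp' ↦ by
    apply Subtype.ext; apply PrimeSpectrum.ext
    have := congrArg (fun I : Ideal D ↦ I.comap (Ideal.Quotient.mk J)) (congrArg Subtype.val hpp')
    simpa [e, Ideal.comap_map_of_surjective _ Ideal.Quotient.mk_surjective, ← RingHom.ker_eq_comap_bot,
      hVQ p, hVQ p'] using this
  have : Finite (Q.asIdeal.primesOver D) :=
    (Algebra.QuasiFinite.finite_primesOver Q.asIdeal).to_subtype
  have : Finite S := Finite.of_injective e hinj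
  have hmax : ∀ p : S, IsClosed ({p} : Set S) := fun p ↦ by
    have : (p.1.asIdeal.map (Ideal.Quotient.mk J)).IsPrime := (e p).2.1
    have h1 : (p.1.asIdeal.map (Ideal.Quotient.mk J)).IsMaximal :=
      Ideal.isMaximal_of_isIntegral_of_isMaximal_comap (R := R) _
        (by have := (e p).2.2.over; rw [Ideal.under] at this; rw [← this]; exact hQmax)
    have h2 : p.1.asIdeal.IsMaximal := by
      have := Ideal.comap_isMaximal_of_surjective (Ideal.Quotient.mk J)
        Ideal.Quotient.mk_surjective (K := p.1.asIdeal.map (Ideal.Quotient.mk J))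
      rwa [Ideal.comap_map_of_surjective _ Ideal.Quotient.mk_surjective,
        ← RingHom.ker_eq_comap_bot, Ideal.mk_ker, sup_eq_left.mpr (hVQ p)] at this
    have h3 : IsClosed ({p.1} : Set (PrimeSpectrum C)) :=
      (PrimeSpectrum.isClosed_singleton_iff_isMaximal _).mpr h2
    convert h3.preimage continuous_subtype_val using 1
    ext x; exact (Subtype.ext_iff).trans Iff.rfl
  have : T1Space S := ⟨hmax⟩
  exact isOpen_discrete _

/-- A prime of the generic fibre, closed there, avoiding `b` and contained in `z`. -/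
theorem exists_prime (hV : IsLocalRing.maximalIdeal V ≠ ⊥) (z : Ideal C) [z.IsMaximal]
    (hz : z.comap (algebraMap V C) = IsLocalRing.maximalIdeal V) (b : C) (hb : b ≠ 0) :
    ∃ P : Ideal C, P.IsPrime ∧ P ≤ z ∧ b ∉ P ∧ P.comap (algebraMap V C) = ⊥ ∧
      ∀ x : C, ∃ p : Polynomial V, p ≠ 0 ∧ Polynomial.aeval x p ∈ P := by
  classical
  obtain ⟨n, φ, hφ, hφz, hqf⟩ := exists_chart z hz
  let R := MvPolynomial (Fin n) V
  let _ := φ.toRingHom.toAlgebra
  have : IsScalarTower V R C := IsScalarTower.of_algebraMap_eq fun x ↦ (φ.commutes x).symm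
  have : Algebra.FiniteType R C := .of_restrictScalars_finiteType V R C
  have : Algebra.QuasiFiniteAt R z := hqf
  obtain ⟨r, hrz, hri, hrx⟩ := Algebra.zariskisMainProperty_iff.mp
    (Algebra.ZariskisMainProperty.of_finiteType (R := R) z)
  let S' := integralClosure R C
  have := isIntegrallyClosed_mvPolynomial V n
  have : FaithfulSMul R S' := (faithfulSMul_iff_algebraMap_injective _ _).mpr
    fun x y h ↦ hφ (congrArg Subtype.val h)
  -- an element of `R` which is a multiple of `r ^ k * b`
  obtain ⟨k, hk⟩ := hrx b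
  let w : S' := ⟨r ^ k * b, hk⟩
  have hr0 : r ≠ 0 := fun h ↦ hrz (h ▸ zero_mem _)
  have hw : w ≠ 0 := fun h ↦ mul_ne_zero (pow_ne_zero k hr0) hb (congrArg Subtype.val h)
  obtain ⟨N, hN, hN0⟩ := Submodule.exists_mem_ne_zero_of_ne_bot (Ideal.comap_ne_bot_of_integral_mem
    (R := R) hw (Ideal.mem_span_singleton_self w) (Algebra.IsIntegral.isIntegral w))
  have hm : (↑(IsLocalRing.maximalIdeal V) : Set V).Infinite := by
    obtain ⟨a, ha, ha0⟩ := Submodule.exists_mem_ne_zero_of_ne_bot hV
    refine Set.infinite_of_injective_forall_mem (f := fun i : ℕ ↦ a ^ (i + 1))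
      (fun i j hij ↦ ?_) fun i ↦ Ideal.pow_mem_of_mem _ ha _ i.succ_pos
    exact Nat.succ_injective (pow_injective_of_not_isUnit (fun h ↦ ha h) ha0 hij)
  obtain ⟨c, hc, hNc⟩ : ∃ c : Fin n → V, (∀ i, c i ∈ IsLocalRing.maximalIdeal V) ∧
      MvPolynomial.eval c N ≠ 0 := by
    by_contra! hall
    exact hN0 (MvPolynomial.funext_set (fun _ ↦ (↑(IsLocalRing.maximalIdeal V) : Set V))
      (fun _ ↦ hm) fun x hx ↦ by
        rw [map_zero]; exact hall x fun i ↦ hx i trivial)
  let Q : Ideal R := RingHom.ker (MvPolynomial.eval c)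
  have : Q.IsPrime := RingHom.ker_isPrime _
  let z' : Ideal S' := z.comap (algebraMap S' C)
  let q : Ideal R := z.comap (algebraMap R C)
  have hz'q : z'.LiesOver q := ⟨by rw [Ideal.under, Ideal.comap_comap]; rfl⟩
  have hQq : Q ≤ q := by
    intro f hf
    have key : ∀ f : R, algebraMap R C f - algebraMap V C (MvPolynomial.eval c f) ∈ z := fun f ↦ by
      induction f using MvPolynomial.induction_on with
      | C a =>
        rw [MvPolynomial.eval_C, ← MvPolynomial.algebraMap_eq, ← IsScalarTower.algebraMap_apply,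
          sub_self]
        exact zero_mem _
      | add p q hp hq => simpa [add_sub_add_comm] using add_mem hp hq
      | mul_X p i hp =>
        have h1 : algebraMap R C (MvPolynomial.X i) - algebraMap V C (c i) ∈ z :=
          sub_mem (hφz i) (by rw [← Ideal.mem_comap, hz]; exact hc i)
        rw [map_mul, map_mul, MvPolynomial.eval_X, map_mul,
          show ∀ a b c d : C, a * b - c * d = a * (b - d) + (a - c) * d from fun _ _ _ _ ↦ by ring]
        exact add_mem (Ideal.mul_mem_left _ _ h1) (Ideal.mul_mem_right _ _ hp)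
    have := key f
    rwa [show MvPolynomial.eval c f = 0 from hf, map_zero, sub_zero] at this
  obtain ⟨P', hP'z, hP', hP'Q⟩ := Ideal.exists_ideal_le_liesOver_of_le (p := Q) (q := q) z' hQq
  let r' : S' := ⟨r, hri⟩
  have hrP' : r' ∉ P' := fun h ↦ hrz (hP'z h)
  let P : Ideal C :=
    { carrier := {x | ∃ (m : ℕ) (s : S'), (s : C) = r ^ m * x ∧ s ∈ P'}
      zero_mem' := ⟨0, 0, by simp, P'.zero_mem⟩
      add_mem' := by
        rintro x y ⟨m, s, hs, hsP⟩ ⟨l, t, ht, htP⟩
        refine ⟨m + l, r' ^ l * s + r' ^ m * t, ?_,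
          add_mem (P'.mul_mem_left _ hsP) (P'.mul_mem_left _ htP)⟩
        simp [r', hs, ht, pow_add]; ring
      smul_mem' := by
        rintro y x ⟨m, s, hs, hsP⟩
        obtain ⟨l, hl⟩ := hrx y
        refine ⟨m + l, s * ⟨_, hl⟩, ?_, P'.mul_mem_right _ hsP⟩
        simp [hs, pow_add]; ring }
  have hPS' : ∀ s : S', (s : C) ∈ P ↔ s ∈ P' := fun s ↦ by
    refine ⟨fun ⟨m, t, ht, htP⟩ ↦ ?_, fun hs ↦ ⟨0, s, by simp, hs⟩⟩
    refine (hP'.mem_or_mem (x := r' ^ m) ?_).resolve_left fun h ↦ hrP' (hP'.mem_of_pow_mem m h)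
    rwa [show r' ^ m * s = t from Subtype.ext (by simp [r', ht])]
  have hPr : r ∉ P := fun h ↦ hrP' ((hPS' r').mp h)
  have hPp : P.IsPrime := by
    refine ⟨fun h ↦ hPr (h ▸ Submodule.mem_top), fun {x y} ⟨m, t, ht, htP⟩ ↦ ?_⟩
    obtain ⟨k, hkx⟩ := hrx x
    obtain ⟨l, hly⟩ := hrx y
    have h1 : (⟨_, hkx⟩ * ⟨_, hly⟩ : S') ∈ P' := by
      refine (hP'.mem_or_mem (x := r' ^ m) ?_).resolve_left fun h ↦ hrP' (hP'.mem_of_pow_mem m h)
      convert P'.mul_mem_left (r' ^ (k + l)) htP using 1
      refine Subtype.ext ?_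
      simp [r', ht, pow_add]; ring
    exact (hP'.mem_or_mem h1).imp (fun h ↦ ⟨k, _, rfl, h⟩) fun h ↦ ⟨l, _, rfl, h⟩
  have hRQ : ∀ f : R, algebraMap R C f ∈ P ↔ MvPolynomial.eval c f = 0 := fun f ↦ by
    rw [show algebraMap R C f = ((algebraMap R S' f : S') : C) from rfl, hPS']
    exact (Ideal.mem_of_liesOver P' Q f).symm
  refine ⟨P, hPp, ?_, ?_, ?_, ?_⟩
  · rintro x ⟨m, s, hs, hsP⟩
    have h1 : r ^ m * x ∈ z := hs ▸ hP'z hsP
    exact ((‹z.IsMaximal›.isPrime).mem_or_mem h1).resolve_left
      fun h ↦ hrz (Ideal.IsPrime.mem_of_pow_mem inferInstance m h)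
  · intro hbP
    obtain ⟨s, hs⟩ := Ideal.mem_span_singleton'.mp hN
    refine hNc ((hRQ N).mp ?_)
    rw [show algebraMap R C N = ((algebraMap R S' N : S') : C) from rfl, ← hs]
    exact P.mul_mem_left _ (P.mul_mem_left _ hbP)
  · refine (Submodule.eq_bot_iff _).mpr fun a ha ↦ ?_
    rw [Ideal.mem_comap, IsScalarTower.algebraMap_apply V R C, hRQ] at ha
    rwa [show algebraMap V R a = MvPolynomial.C a from rfl, MvPolynomial.eval_C] at ha
  · intro x
    let L := FractionRing (C ⧸ P)
    let π : C →ₐ[V] L :=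
      (IsScalarTower.toAlgHom V (C ⧸ P) L).comp (Ideal.Quotient.mkₐ V P)
    have hπ : ∀ y, π y = 0 ↔ y ∈ P := fun y ↦ by
      rw [← Ideal.Quotient.eq_zero_iff_mem]
      exact map_eq_zero_iff _ (IsFractionRing.injective (C ⧸ P) L)
    have hS : ∀ y : C, IsIntegral R y → IsAlgebraic V (π y) := by
      rintro y ⟨p, hp, hpy⟩
      refine IsIntegral.isAlgebraic ⟨p.map (MvPolynomial.eval c), hp.map _, ?_⟩
      have hcomp : (algebraMap V L).comp (MvPolynomial.eval c) =
          π.toRingHom.comp (algebraMap R C) := by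
        refine RingHom.ext fun f ↦ ?_
        have h2 : algebraMap R C (f - algebraMap V R (MvPolynomial.eval c f)) ∈ P := by
          rw [hRQ, map_sub, show algebraMap V R (MvPolynomial.eval c f) =
            MvPolynomial.C (MvPolynomial.eval c f) from rfl, MvPolynomial.eval_C, sub_self]
        have h3 := (hπ _).mpr h2
        rw [map_sub, ← IsScalarTower.algebraMap_apply, map_sub, AlgHom.commutes, sub_eq_zero] at h3
        exact h3.symm
      rw [Polynomial.eval₂_map, hcomp]
      show Polynomial.eval₂ (π.toRingHom.comp (algebraMap R C)) (π.toRingHom y) p = 0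
      rw [← Polynomial.hom_eval₂, hpy, map_zero]
    obtain ⟨m, hm⟩ := hrx x
    have hrm : π (r ^ m) ≠ 0 := fun h ↦ hPr (hPp.mem_of_pow_mem m ((hπ _).mp h))
    have : π x = (π (r ^ m))⁻¹ * π (r ^ m * x) := by
      rw [map_mul, ← mul_assoc, inv_mul_cancel₀ hrm, one_mul]
    obtain ⟨p, hp0, hp⟩ : IsAlgebraic V (π x) :=
      this ▸ ((hS _ (hri.pow m)).inv.mul (hS _ hm))
    exact ⟨p, hp0, (hπ _).mp (by rw [← Polynomial.aeval_algHom_apply]; exact hp)⟩

end SpecLib
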